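import Cfsg.Agent.Lib.AbelianSylowAut.PSLTwo
import Cfsg.Agent.Lib.JankoOne.Aut
import Cfsg.Prelude.Def_Spor_J1

/-!
# S2555 from the list of S2554 (owner: helper96)

* `inner_of_list` : a simple group isomorphic to `J₁` or to `L₂(q)`, `q ≡ 0, 3, 5 (mod 8)`: an automorphism
  of `r`-power order fixing a Sylow `r`-subgroup pointwise is inner
-/

set_option autoImplicit false
set_option linter.style.haveILetI false

namespace Cfsg.Agent.AbelianSylowAut

universe u v

/-- An inner automorphism of the image gives one of the group. -/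
theorem inner_of_congr {G : Type u} [Group G] {M : Type v} [Group M] (e : G ≃* M) {α : MulAut G} {y : M}
    (h : MulAut.congr e α = MulAut.conj y) : ∃ g : G, ∀ x : G, α x = g * x * g⁻¹ := by
  refine ⟨e.symm y, fun x => e.injective ?_⟩
  have h1 : e (α (e.symm (e x))) = y * e x * y⁻¹ := MulEquiv.congr_fun h (e x)
  rw [e.symm_apply_apply] at h1
  rw [h1, map_mul, map_mul, map_inv, e.apply_symm_apply]

/-- The conclusion of S2555, given that of S2554. -/
theorem inner_of_list {G : Type u} [Group G] [Finite G] [IsSimpleGroup G] (hna : ¬ IsMulCommutative G)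
    (hlist : Cfsg.Spor.IsoJ1 G ∨
      ∃ (F : Type) (_ : Field F) (_ : Fintype F), 3 < Fintype.card F ∧
        (Fintype.card F % 8 = 0 ∨ Fintype.card F % 8 = 3 ∨ Fintype.card F % 8 = 5) ∧
        Nonempty (G ≃* Matrix.ProjectiveSpecialLinearGroup (Fin 2) F))
    {r : ℕ} [Fact r.Prime] (hr : r ∣ Nat.card G) (α : G ≃* G) {k : ℕ} (hα : orderOf α = r ^ k)
    (R : Sylow r G) (hR : ∀ x ∈ (R : Subgroup G), α x = x) :
    ∃ g : G, ∀ x : G, α x = g * x * g⁻¹ := by
  classical
  rcases hlist with ⟨⟨e⟩⟩ | ⟨F, _, _, -, h8, ⟨e⟩⟩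
  · obtain ⟨y, hy⟩ := JankoOne.exists_conj_eq (MulAut.congr e α)
    exact inner_of_congr e hy.symm
  haveI : IsSimpleGroup (Matrix.ProjectiveSpecialLinearGroup (Fin 2) F) :=
    haveI : Nontrivial (Matrix.ProjectiveSpecialLinearGroup (Fin 2) F) := e.symm.toEquiv.nontrivial
    IsSimpleGroup.isSimpleGroup_of_surjective e.toMonoidHom e.surjective
  have hna' : ¬ IsMulCommutative (Matrix.ProjectiveSpecialLinearGroup (Fin 2) F) := fun h =>
    hna ⟨⟨fun a b => e.injective (by rw [map_mul, map_mul]; exact h.is_comm.comm (e a) (e b))⟩⟩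
  have hq : Even (Fintype.card F) ∨ Fintype.card F % 8 = 3 ∨ Fintype.card F % 8 = 5 :=
    h8.imp_left fun h => Nat.even_iff.2 (by omega)
  obtain ⟨y, hy⟩ := inner_psl hna' hq (r := r) (hr.trans (Nat.card_congr e.toEquiv).dvd)
    (α := MulAut.congr e α) (k := k) ((MulEquiv.orderOf_eq (MulAut.congr e) α).trans hα)
    (R.mapSurjective (f := e.toMonoidHom) e.surjective) fun x hx => by
      replace hx : x ∈ (R : Subgroup G).map e.toMonoidHom := hx
      obtain ⟨z, hz, rfl⟩ := hx
      show e (α (e.symm (e z))) = e z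
      rw [e.symm_apply_apply, hR z hz]
  exact inner_of_congr e hy

end Cfsg.Agent.AbelianSylowAut
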