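import Cfsg.Agent.Lib.AutPSL.Count
import Cfsg.Agent.Lib.PSL2.Torus
import Cfsg.Agent.Lib.PSL2.Elements
import Cfsg.Agent.Lib.FieldAut.Descent
import Cfsg.Agent.Lib.CentFour.Sylow
import Cfsg.Agent.Lib.Coprime.Basic
import Mathlib.NumberTheory.Multiplicity

/-!
# Automorphisms of `L₂(q)` fixing an abelian Sylow subgroup pointwise (owner: helper96, S2555)

* `semi_inner` : `semi g 1` is inner when `det g` is a square
* `inner_psl` : an automorphism of `r`-power order fixing a Sylow `r`-subgroup pointwise is inner,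
  for `q` even or `q ≡ 3, 5 (mod 8)`
-/

set_option autoImplicit false
set_option linter.style.haveILetI false
set_option linter.unusedSectionVars false

open Matrix
open scoped MatrixGroups

namespace Cfsg.Agent.AbelianSylowAut

open Cfsg.Agent.AutPSL

variable {F : Type*} [Field F] [Fintype F]

local notation "PG" => ProjectiveSpecialLinearGroup (Fin 2) F
local notation "M₂" => Matrix (Fin 2) (Fin 2) F

/-- Fixed points of `semi g σ` on the level of matrices. -/
theorem fixed_matrix {g : GL (Fin 2) F} {σ : F ≃+* F} {s : Matrix.SpecialLinearGroup (Fin 2) F}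
    (h : semi g σ (proj (Fin 2) F s) = proj (Fin 2) F s) :
    ∃ c : F, c ^ 2 = 1 ∧ (g : M₂) * (s : M₂).map σ = c • ((s : M₂) * (g : M₂)) := by
  rw [semi_proj, proj_eq_iff] at h
  obtain ⟨c, hc, e⟩ := h
  rw [Fintype.card_fin] at hc
  refine ⟨c, hc, ?_⟩
  have hsl : ((semiSL g σ s : Matrix.SpecialLinearGroup (Fin 2) F) : M₂) =
      (g : M₂) * (s : M₂).map σ * ((g⁻¹ : GL (Fin 2) F) : M₂) := rfl
  have e' := congrArg (fun M : M₂ => c • (M * (g : M₂))) e
  simp only [hsl, smul_mul_assoc, smul_smul, mul_assoc, Units.inv_mul, mul_one, ← pow_two, hc,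
    one_smul] at e'
  exact e'.symm

/-- `semi g 1` is inner when the determinant of `g` is a square. -/
theorem semi_inner (g : GL (Fin 2) F) {a : F} (ha : (g : M₂).det = a ^ 2) :
    ∃ x : PG, semi g (RingEquiv.refl F) = MulAut.conj x := by
  have ha0 : a ≠ 0 := fun h => by
    have := (g.isUnit.map Matrix.detMonoidHom).ne_zero
    rw [Matrix.coe_detMonoidHom, ha, h] at this
    simp at this
  let S : Matrix.SpecialLinearGroup (Fin 2) F := ⟨a⁻¹ • (g : M₂), by
    rw [Matrix.det_smul, ha, Fintype.card_fin, inv_pow, inv_mul_cancel₀ (pow_ne_zero _ ha0)]⟩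
  refine ⟨proj (Fin 2) F S, ?_⟩
  rw [conj_eq_semi]
  refine (semi_eq_semi (m := 0)).2 ⟨rfl, Subgroup.mem_center_iff.2 fun h => Units.ext ?_⟩
  have e : ((g⁻¹ * Matrix.SpecialLinearGroup.toGL S : GL (Fin 2) F) : M₂) = a⁻¹ • (1 : M₂) := by
    show ((g⁻¹ : GL (Fin 2) F) : M₂) * (a⁻¹ • (g : M₂)) = _
    rw [Matrix.mul_smul, Units.inv_mul]
  show (h : M₂) * ((g⁻¹ * Matrix.SpecialLinearGroup.toGL S : GL (Fin 2) F) : M₂) =
    ((g⁻¹ * Matrix.SpecialLinearGroup.toGL S : GL (Fin 2) F) : M₂) * (h : M₂)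
  rw [e, Matrix.mul_smul, Matrix.smul_mul, mul_one, one_mul]

theorem semi_pow (g : GL (Fin 2) F) (σ : F ≃+* F) :
    ∀ k : ℕ, ∃ h : GL (Fin 2) F, semi g σ ^ k = semi h (σ ^ k) ∧
      (σ = 1 → h = g ^ k) := by
  intro k
  induction k with
  | zero => exact ⟨1, (semi_one (n := Fin 2) (F := F)).symm, fun _ => rfl⟩
  | succ k ih =>
    obtain ⟨h, e, he⟩ := ih
    refine ⟨g * Matrix.GeneralLinearGroup.map (σ : F →+* F) h, ?_, fun h1 => ?_⟩
    · rw [pow_succ' (semi g σ), e, semi_mul, pow_succ' σ]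
      rfl
    · rw [he h1, h1, pow_succ']
      rfl

/-- The data of an automorphism of `r`-power order. -/
theorem exists_semi_data {α : MulAut PG} {r k : ℕ} (hα : orderOf α = r ^ k) :
    ∃ (g : GL (Fin 2) F) (σ : F ≃+* F), α = semi g σ ∧ σ ^ r ^ k = 1 ∧
      (σ = 1 → ∃ a : F, (g : M₂).det ^ r ^ k = a ^ 2) := by
  obtain ⟨g, σ, rfl⟩ := exists_semi_of_two (F := F) α
  obtain ⟨h, e, he⟩ := semi_pow g σ (r ^ k)
  have h1 : semi h (σ ^ r ^ k) = 1 := by rw [← e, ← hα, pow_orderOf_eq_one]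
  obtain ⟨hσ, hc⟩ := (semi_eq_one_iff (m := 0)).1 h1
  refine ⟨g, σ, rfl, hσ, fun hs => ?_⟩
  rw [Matrix.GeneralLinearGroup.center_eq_range_scalar] at hc
  obtain ⟨c, hc⟩ := hc
  refine ⟨(c : F), ?_⟩
  have h2 := congrArg (fun z : GL (Fin 2) F => (z : M₂).det) (hc.trans (he hs))
  simpa [Units.val_pow_eq_pow_val, Matrix.det_pow] using h2.symm

/-- An automorphism fixing the translations is inner. -/
theorem inner_of_translations {g : GL (Fin 2) F} {σ : F ≃+* F}
    (h : ∀ s : Matrix.SpecialLinearGroup (Fin 2) F, (s : M₂) 1 0 = 0 → (s : M₂) 0 0 = 1 → (s : M₂) 1 1 = 1 →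
      semi g σ (proj (Fin 2) F s) = proj (Fin 2) F s) :
    ∃ x : PG, semi g σ = MulAut.conj x := by
  have hkey : ∀ b : F, ∃ c : F, c ^ 2 = 1 ∧
      (g : M₂) * (!![1, σ b; 0, 1] : M₂) = c • ((!![1, b; 0, 1] : M₂) * (g : M₂)) := fun b => by
    obtain ⟨c, hc, e⟩ := fixed_matrix (h ⟨!![1, b; 0, 1], by simp [Matrix.det_fin_two]⟩
      (by simp) (by simp) (by simp))
    refine ⟨c, hc, ?_⟩
    rw [← e]
    congr 1
    ext i j; fin_cases i <;> fin_cases j <;> simp
  have hent : ∀ b : F, ∃ c : F, c ^ 2 = 1 ∧ (g : M₂) 0 0 = c * ((g : M₂) 0 0 + b * (g : M₂) 1 0) ∧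
      (g : M₂) 1 0 = c * (g : M₂) 1 0 ∧
      (g : M₂) 0 0 * σ b + (g : M₂) 0 1 = c * ((g : M₂) 0 1 + b * (g : M₂) 1 1) := fun b => by
    obtain ⟨c, hc, e⟩ := hkey b
    refine ⟨c, hc, ?_, ?_, ?_⟩
    · simpa [Matrix.mul_apply, Fin.sum_univ_two, Matrix.vecMul, dotProduct] using congrFun (congrFun e 0) 0
    · simpa [Matrix.mul_apply, Fin.sum_univ_two, Matrix.vecMul, dotProduct] using congrFun (congrFun e 1) 0
    · simpa [Matrix.mul_apply, Fin.sum_univ_two, Matrix.vecMul, dotProduct] using congrFun (congrFun e 0) 1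
  have hdet : (g : M₂).det ≠ 0 := (g.isUnit.map Matrix.detMonoidHom).ne_zero
  have h10 : (g : M₂) 1 0 = 0 := by
    by_contra h0
    obtain ⟨c, -, e1, e2, -⟩ := hent 1
    have hc : c = 1 := (mul_eq_right₀ h0).1 e2.symm
    rw [hc] at e1
    exact h0 (by linear_combination -e1)
  rw [Matrix.det_fin_two, h10, mul_zero, sub_zero] at hdet
  have h00 := left_ne_zero_of_mul hdet
  have hc1 : ∀ b : F, (g : M₂) 0 0 * σ b = b * (g : M₂) 1 1 := fun b => by
    obtain ⟨c, -, e1, -, e3⟩ := hent b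
    rw [h10, mul_zero, add_zero] at e1
    rw [(mul_eq_right₀ h00).1 e1.symm, one_mul] at e3
    linear_combination e3
  have had : (g : M₂) 0 0 = (g : M₂) 1 1 := by simpa using hc1 1
  have hσ : σ = RingEquiv.refl F := RingEquiv.ext fun b => by
    show σ b = b
    refine mul_left_cancel₀ h00 ?_
    rw [hc1 b, had, mul_comm]
  subst hσ
  exact semi_inner g (a := (g : M₂) 0 0) (by rw [Matrix.det_fin_two, h10, ← had]; ring)

/-- An automorphism fixing pointwise a Sylow subgroup in the natural characteristic is inner. -/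
theorem inner_of_char {p : ℕ} [Fact p.Prime] [CharP F p] {α : MulAut PG} (R : Sylow p PG)
    (hR : ∀ x ∈ (R : Subgroup PG), α x = x) : ∃ x : PG, α = MulAut.conj x := by
  classical
  obtain ⟨P, hP⟩ := exists_sylow_upperUP (F := F) (m := 0) p
  obtain ⟨y, hy⟩ := MulAction.exists_smul_eq PG P R
  set β := (MulAut.conj y)⁻¹ * α * MulAut.conj y with hβ
  obtain ⟨g, σ, hg⟩ := exists_semi_of_two (F := F) β
  obtain ⟨x, hx⟩ := inner_of_translations (g := g) (σ := σ) fun s h10 h00 h11 => by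
    have hs : proj (Fin 2) F s ∈ (P : Subgroup PG) := by
      rw [show (P : Subgroup PG) = upperUP F 0 from hP]
      refine ⟨s, mem_upperUS.2 ⟨?_, fun i => ?_⟩, rfl⟩
      · intro i j hij
        fin_cases i <;> fin_cases j <;> simp_all
      · fin_cases i <;> assumption
    have hsR : y * proj (Fin 2) F s * y⁻¹ ∈ (R : Subgroup PG) := by
      rw [← hy, Sylow.coe_subgroup_smul, Coprime.mem_conj]
      simpa [mul_assoc] using hs
    rw [← hg, hβ, MulAut.mul_apply, MulAut.mul_apply, MulAut.conj_apply, hR _ hsR, MulAut.conj_inv_apply]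
    group
  refine ⟨y * x * y⁻¹, ?_⟩
  rw [map_mul, map_mul, map_inv, ← hx, ← hg, hβ]
  group

/-- Two trace-zero matrices. -/
theorem traceless_sum {A B : M₂} (hA : A.trace = 0) (hB : B.trace = 0) :
    A * B + B * A = (A * B).trace • (1 : M₂) := by
  rw [Matrix.trace_fin_two] at hA hB
  have a1 : A 1 1 = - A 0 0 := by linear_combination hA
  have b1 : B 1 1 = - B 0 0 := by linear_combination hB
  ext i j
  fin_cases i <;> fin_cases j <;>
    simp [Matrix.mul_apply, Fin.sum_univ_two, Matrix.trace_fin_two, a1, b1] <;> ring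

/-- A matrix commuting with two anticommuting square roots of `-1` is scalar. -/
theorem scalar_of_commute (h2 : (2 : F) ≠ 0) {S T X : M₂} (hS : S * S = -1) (hT : T * T = -1)
    (hTS : T * S = -(S * T)) (hXS : X * S = S * X) (hXT : X * T = T * X) :
    ∃ a : F, X = a • (1 : M₂) := by
  have htr : ∀ A B : M₂, B * B = -1 → B * A = -(A * B) → A.trace = 0 := fun A B hB hBA => by
    have e : B * A * B = A := by rw [hBA, neg_mul, mul_assoc, hB, mul_neg, mul_one, neg_neg]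
    have := congrArg Matrix.trace e
    rw [Matrix.trace_mul_comm, ← mul_assoc, hB, neg_mul, one_mul, Matrix.trace_neg] at this
    have h0 : (2 : F) * A.trace = 0 := by linear_combination -this
    exact (mul_eq_zero.1 h0).resolve_left h2
  have hS0 : S.trace = 0 := htr S T hT hTS
  have hT0 : T.trace = 0 := htr T S hS (by rw [hTS, neg_neg])
  refine ⟨X.trace / 2, ?_⟩
  set Y := X - (X.trace / 2) • (1 : M₂) with hY
  suffices Y = 0 by rwa [hY, sub_eq_zero] at this
  have hY0 : Y.trace = 0 := by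
    rw [hY, Matrix.trace_sub, Matrix.trace_smul, Matrix.trace_one, Fintype.card_fin]
    simp only [smul_eq_mul, Nat.cast_ofNat]
    field_simp
    ring
  have hc : ∀ A : M₂, X * A = A * X → Y * A = A * Y := fun A hA => by
    rw [hY, sub_mul, mul_sub, hA, Matrix.smul_mul, Matrix.mul_smul, one_mul, mul_one]
  have hcoef : ∀ A : M₂, A * A = -1 → A.trace = 0 → X * A = A * X →
      ∃ t : F, Y = t • A := fun A hA hA0 hXA => by
    have h1 := traceless_sum hY0 hA0
    rw [← hc A hXA, ← two_smul F] at h1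
    refine ⟨-((Y * A).trace / 2), ?_⟩
    have h2' := congrArg (fun M : M₂ => M * A) h1
    simp only [Matrix.smul_mul, one_mul, mul_assoc, hA, mul_neg, mul_one] at h2'
    rw [smul_neg] at h2'
    have h3 : (2 : F) • Y = -((Y * A).trace • A) := by rw [← h2', neg_neg]
    have h4 := congrArg (fun M : M₂ => (2 : F)⁻¹ • M) h3
    simp only [smul_smul, inv_mul_cancel₀ h2, one_smul, smul_neg] at h4
    refine h4.trans ?_
    rw [neg_smul, div_eq_inv_mul]
  obtain ⟨t, ht⟩ := hcoef S hS hS0 hXS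
  obtain ⟨u, hu⟩ := hcoef T hT hT0 hXT
  have h5 := hu.symm.trans ht
  have h6 : u • (T * S) = u • (S * T) := by
    rw [← Matrix.smul_mul, ← Matrix.mul_smul, h5, Matrix.smul_mul, Matrix.mul_smul]
  rw [hTS, smul_neg] at h6
  have h7 : ((2 : F) * u) • (S * T) = 0 := by
    rw [mul_smul, two_smul]
    calc u • (S * T) + u • (S * T) = u • (S * T) + -(u • (S * T)) := by rw [h6]
      _ = 0 := add_neg_cancel _
  have h8 : S * T ≠ 0 := fun e => by
    have h9 := congrArg (fun M : M₂ => S * M) e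
    simp only [← mul_assoc, hS, neg_mul, one_mul, mul_zero, neg_eq_zero] at h9
    rw [h9, mul_zero] at hT
    exact (neg_ne_zero.2 (one_ne_zero (α := M₂))) hT.symm
  have hu0 : u = 0 := by
    rcases smul_eq_zero.1 h7 with h | h
    · exact (mul_eq_zero.1 h).resolve_left h2
    · exact absurd h h8
  rw [hu, hu0, zero_smul]

/-- The odd prime arithmetic. -/
theorem mul_dvd_pow_sub_one {r m y : ℕ} (hy : 1 ≤ y) (hrm : r ∣ m) (hm : m ∣ y - 1) :
    r * m ∣ y ^ r - 1 := by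
  have hm' : (m : ℤ) ∣ (y : ℤ) - 1 := by
    have := Int.natCast_dvd_natCast.2 hm
    rwa [Nat.cast_sub hy, Nat.cast_one] at this
  have h1 : (r : ℤ) ∣ ∑ i ∈ Finset.range r, (y : ℤ) ^ i * (1 : ℤ) ^ (r - 1 - i) :=
    dvd_geom_sum₂_self ((Int.natCast_dvd_natCast.2 hrm).trans hm')
  have h2 := mul_dvd_mul h1 hm'
  rw [geom_sum₂_mul, one_pow] at h2
  refine Int.natCast_dvd_natCast.1 ?_
  rw [Nat.cast_mul, Nat.cast_sub (Nat.one_le_pow _ _ hy), Nat.cast_pow, Nat.cast_one]
  exact h2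

/-- The field automorphism of an automorphism of `r`-power order fixing a Sylow `r`-subgroup, `r` odd. -/
theorem field_eq_one {r : ℕ} [Fact r.Prime] (hodd : r ≠ 2) {p : ℕ} [Fact p.Prime] [CharP F p]
    (hrp : r ≠ p) (hr : r ∣ Nat.card PG) {g : GL (Fin 2) F} {σ : F ≃+* F} {k : ℕ}
    (hσ : σ ^ r ^ k = 1) (R : Sylow r PG) (hR : ∀ x ∈ (R : Subgroup PG), semi g σ x = x) : σ = 1 := by
  classical
  by_contra hne
  have hrP : r.Prime := Fact.out
  set q := Nat.card F with hqdef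
  have hq2 : 1 < q := Finite.one_lt_card
  set d := Nat.gcd 2 (q - 1) with hd
  have hd2 : d ∣ 2 := Nat.gcd_dvd_left _ _
  have hrd : Nat.Coprime r d :=
    (((Nat.coprime_primes hrP Nat.prime_two).2 hodd)).coprime_dvd_right hd2
  obtain ⟨n, -, hqn⟩ := GLOrder.exists_card_eq_pow (F := F) p
  have hrq : ¬ r ∣ q := fun h => hrp
    ((Nat.prime_dvd_prime_iff_eq hrP (Fact.out : p.Prime)).1 (hrP.dvd_of_dvd_pow (hqn.subst (motive := fun z => r ∣ z) (hqdef ▸ h))))
  -- the torus containing a Sylow subgroup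
  obtain ⟨e, he, hre, hother⟩ : ∃ e, (e = q - 1 ∨ e = q + 1) ∧ r ∣ e ∧
      ∀ w : ℕ, w ∣ q ^ 2 - 1 → (∃ i, w = r ^ i) → w ∣ e := by
    have hne2 : ∀ a : ℕ, r ∣ a → ¬ r ∣ a + 2 := fun a ha h => hodd
      ((Nat.prime_dvd_prime_iff_eq hrP Nat.prime_two).1 ((Nat.dvd_add_right ha).1 h))
    have hsq : q ^ 2 - 1 = (q + 1) * (q - 1) := by
      have := Nat.sq_sub_sq q 1
      simpa using this
    have h := hr.trans (Dvd.intro_left _ (PSL2.card_psl_mul (F := F)))
    rw [← hqdef] at h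
    rcases hrP.dvd_mul.1 ((hrP.dvd_mul.1 h).resolve_left hrq) with h1 | h1
    · refine ⟨q + 1, Or.inr rfl, h1, fun w hw ⟨i, hi⟩ => ?_⟩
      rw [hsq, hi] at hw
      rw [hi]
      refine (Nat.Coprime.pow_left i ((hrP.coprime_iff_not_dvd).2 fun h2 => hne2 _ h2 ?_)).dvd_of_dvd_mul_right hw
      rwa [show q - 1 + 2 = q + 1 by omega]
    · refine ⟨q - 1, Or.inl rfl, h1, fun w hw ⟨i, hi⟩ => ?_⟩
      rw [hsq, hi] at hw
      rw [hi]
      refine (Nat.Coprime.pow_left i ((hrP.coprime_iff_not_dvd).2 fun h2 => hne2 _ h1 ?_)).dvd_of_dvd_mul_left hw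
      rwa [show q - 1 + 2 = q + 1 by omega]
  have he0 : e ≠ 0 := by rcases he with rfl | rfl <;> omega
  set v := e.factorization r
  set m := r ^ v with hm
  have hrm : r ∣ m := dvd_pow_self r (hrP.factorization_pos_of_dvd he0 hre).ne'
  have hmd : m * d ∣ e := (Nat.Coprime.pow_left v hrd).mul_dvd_of_dvd_of_dvd (Nat.ordProj_dvd e r) (by
    have h1 : d ∣ q - 1 := Nat.gcd_dvd_right _ _
    rcases he with rfl | rfl
    · exact h1
    · rw [show q + 1 = q - 1 + 2 by omega]; exact Nat.dvd_add h1 hd2)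
  obtain ⟨x, hx⟩ := PSL2.exists_psl_orderOf_torus (F := F) (m := m)
    (he.imp (fun h => by rw [h] at hmd; exact hmd) (fun h => by rw [h] at hmd; exact hmd))
  -- a conjugate in `R`, and its lift of order `m`
  obtain ⟨P, hP⟩ := (IsPGroup.of_card (n := v) (p := r) (G := Subgroup.zpowers x)
    (by rw [Nat.card_zpowers, hx])).exists_le_sylow
  obtain ⟨y, hy⟩ := MulAction.exists_smul_eq PG P R
  have hyR : y * x * y⁻¹ ∈ (R : Subgroup PG) := by
    rw [← hy, Sylow.coe_subgroup_smul, Coprime.mem_conj]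
    simpa [mul_assoc] using hP (Subgroup.mem_zpowers x)
  obtain ⟨T, hT, hTo⟩ := PSL2.exists_lift_orderOf (F := F) (y * x * y⁻¹)
  rw [show orderOf (y * x * y⁻¹) = m by rw [← MulAut.conj_apply, MulEquiv.orderOf_eq, hx]] at hTo
  set s := T ^ d
  have hd0 : 0 < d := Nat.gcd_pos_of_pos_left _ two_pos
  have hso : orderOf s = m := by
    rw [orderOf_pow' _ hd0.ne', hTo, ← hd, Nat.gcd_mul_left_left, Nat.mul_div_cancel _ hd0]
  have hsR : proj (Fin 2) F s ∈ (R : Subgroup PG) := by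
    rw [show proj (Fin 2) F s = (y * x * y⁻¹) ^ d by rw [map_pow, ← hT]; rfl]
    exact pow_mem hyR _
  have h4 : PSL2.tr s ^ 2 ≠ 4 := by
    intro h
    have h1 : s ^ (2 * p) = 1 := by
      rcases PSL2.pow_char_of_tr_sq (p := p) h with h | h <;> rw [mul_comm, pow_mul, h]
      · exact one_pow _
      · exact neg_one_sq
    have h2 := hrm.trans (hso ▸ orderOf_dvd_of_pow_eq_one h1)
    rcases hrP.dvd_mul.1 h2 with h3 | h3
    · exact hodd ((Nat.prime_dvd_prime_iff_eq hrP Nat.prime_two).1 h3)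
    · exact hrp ((Nat.prime_dvd_prime_iff_eq hrP Fact.out).1 h3)
  -- the square of the trace is fixed by `σ`
  obtain ⟨c, hc, e1⟩ := fixed_matrix (hR _ hsR)
  have htr : σ (PSL2.tr s) ^ 2 = PSL2.tr s ^ 2 := by
    have e2 : ((s : M₂).map σ) = c • (((g⁻¹ : GL (Fin 2) F) : M₂) * ((s : M₂) * (g : M₂))) := by
      rw [← Matrix.mul_smul, ← e1, ← mul_assoc, Units.inv_mul, one_mul]
    have e3 := congrArg Matrix.trace e2
    rw [Matrix.trace_smul, Matrix.trace_mul_comm, mul_assoc, Units.mul_inv, mul_one, smul_eq_mul] at e3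
    have e4 : σ (PSL2.tr s) = c * PSL2.tr s := by
      rw [show PSL2.tr s = (s : M₂).trace from (Matrix.trace_fin_two (s : M₂)).symm, ← e3]
      exact AddMonoidHom.map_trace σ.toAddMonoidHom (s : M₂)
    rw [e4, mul_pow, hc, one_mul]
  -- the fixed field
  set N := orderOf σ with hN
  haveI : Finite (F ≃+* F) := Finite.of_injective _ DFunLike.coe_injective
  obtain ⟨j, -, hNj⟩ := (Nat.dvd_prime_pow hrP).1 (orderOf_dvd_of_pow_eq_one hσ)
  have hj : j ≠ 0 := fun h => hne (orderOf_eq_one_iff.1 (by rw [hNj, h, pow_zero]))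
  have hrN : r ∣ N := hN ▸ hNj ▸ dvd_pow_self r hj
  haveI : Fintype (FieldAut.fixF σ) := Fintype.ofFinite _
  set q0 := Fintype.card (FieldAut.fixF σ) with hq0
  have hqN : q0 ^ N = q := by
    rw [hq0, ← Nat.card_eq_fintype_card]; exact FieldAut.pow_card_fixed σ hN.symm
  have hu : (PSL2.tr s ^ 2 - 2) ∈ FieldAut.fixF σ :=
    (FieldAut.mem_fixF σ).2 (by rw [map_sub, map_pow, htr, map_ofNat])
  have hupow : (PSL2.tr s ^ 2 - 2) ^ q0 = PSL2.tr s ^ 2 - 2 :=
    congrArg Subtype.val (FiniteField.pow_card (⟨_, hu⟩ : FieldAut.fixF σ))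
  -- the eigenvalue
  let K := AlgebraicClosure F
  set φ : F →+* K := algebraMap F K
  haveI : CharP K p := charP_of_injective_ringHom φ.injective p
  obtain ⟨γ, hγ⟩ := PSL2.exists_root (K := K) φ s
  have hγo : orderOf γ = m := hso ▸ (PSL2.orderOf_eq_orderOf_root φ hγ h4).symm
  have hγ0 := PSL2.root_ne_zero φ hγ
  obtain ⟨i, -, hq0i⟩ := (Nat.dvd_prime_pow (Fact.out : p.Prime)).1
    (show q0 ∣ p ^ n by rw [← hqn]; change q0 ∣ q; rw [← hqN]; exact dvd_pow_self q0 (orderOf_pos σ).ne')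
  set μ := γ ^ 2 with hμdef
  have hμ0 : μ ≠ 0 := pow_ne_zero _ hγ0
  have hμ : μ ^ q0 + (μ ^ q0)⁻¹ = μ + μ⁻¹ := by
    have h1 : φ (PSL2.tr s ^ 2 - 2) = μ + μ⁻¹ := by
      rw [map_sub, map_pow, PSL2.add_inv_root φ hγ, map_ofNat, hμdef, ← inv_pow]
      linear_combination (2 : K) * mul_inv_cancel₀ hγ0
    have h2 := congrArg φ hupow
    rw [map_pow, h1, hq0i, add_pow_char_pow, inv_pow, ← hq0i] at h2
    exact h2
  have hcases : μ ^ q0 = μ ∨ μ ^ q0 = μ⁻¹ := by
    have hz : μ ^ q0 ≠ 0 := pow_ne_zero _ hμ0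
    have h0 : (μ ^ q0 - μ) * (μ ^ q0 * μ - 1) = 0 := by
      linear_combination (μ ^ q0 * μ) * hμ - μ * mul_inv_cancel₀ hz + μ ^ q0 * mul_inv_cancel₀ hμ0
    rcases mul_eq_zero.1 h0 with h | h
    · exact Or.inl (sub_eq_zero.1 h)
    · exact Or.inr (eq_inv_of_mul_eq_one_left (sub_eq_zero.1 h))
  have hq01 : 1 ≤ q0 := Fintype.card_pos
  have hpow : μ ^ (q0 ^ 2 - 1) = 1 := by
    refine mul_right_cancel₀ hμ0 ?_
    rw [← pow_succ, one_mul, Nat.sub_add_cancel (Nat.one_le_pow _ _ hq01), pow_two, pow_mul]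
    rcases hcases with h | h <;> rw [h]
    · exact h
    · rw [inv_pow, h, inv_inv]
  have hm0 : m ∣ q0 ^ 2 - 1 := by
    rw [hμdef, ← pow_mul] at hpow
    have := orderOf_dvd_of_pow_eq_one hpow
    rw [hγo] at this
    exact (Nat.Coprime.pow_left v ((Nat.coprime_primes hrP Nat.prime_two).2 hodd)).dvd_of_dvd_mul_left this
  -- the contradiction
  obtain ⟨N', hN'⟩ := hrN
  have hy1 : m ∣ (q0 ^ 2) ^ N' - 1 := hm0.trans (by simpa using Nat.sub_one_dvd_pow_sub_one (q0 ^ 2) N')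
  have hbig := mul_dvd_pow_sub_one (r := r) (Nat.one_le_pow _ _ (Nat.one_le_pow 2 _ hq01)) hrm hy1
  rw [← pow_mul, ← pow_mul, show 2 * (N' * r) = N * 2 by rw [hN']; ring, pow_mul, hqN] at hbig
  exact Nat.pow_succ_factorization_not_dvd he0 hrP
    (show r ^ (v + 1) ∣ e by
      have := hother _ hbig ⟨v + 1, by rw [pow_succ, hm, mul_comm]⟩
      rwa [pow_succ, mul_comm])

/-- The case `r = 2`, `q ≡ 3, 5 (mod 8)`. -/
theorem inner_of_two {p : ℕ} [Fact p.Prime] [CharP F p]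
    (h8 : Fintype.card F % 8 = 3 ∨ Fintype.card F % 8 = 5) (hna : ¬ IsMulCommutative PG)
    [IsSimpleGroup PG] (h2G : 2 ∣ Nat.card PG) {g : GL (Fin 2) F} {σ : F ≃+* F} {k : ℕ}
    (hσ : σ ^ 2 ^ k = 1) (R : Sylow 2 PG) (hR : ∀ x ∈ (R : Subgroup PG), semi g σ x = x) :
    ∃ x : PG, semi g σ = MulAut.conj x := by
  classical
  haveI : Fact (Nat.Prime 2) := ⟨Nat.prime_two⟩
  haveI : Finite (F ≃+* F) := Finite.of_injective _ DFunLike.coe_injective
  obtain ⟨f, hf, hFf⟩ := GLOrder.exists_card_eq_pow (F := F) p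
  have hFf' : Fintype.card F = p ^ f := by rw [← Nat.card_eq_fintype_card, hFf]
  have hqodd : Odd (p ^ f) := Nat.odd_iff.2 (by omega)
  have hpodd : Odd p := Odd.of_dvd_nat hqodd (dvd_pow_self p (by omega))
  have hfodd : Odd f := by
    by_contra hev
    obtain ⟨j, rfl⟩ := Nat.not_odd_iff_even.1 hev
    obtain ⟨i, hi⟩ := hpodd.pow (n := j)
    have : p ^ (j + j) % 8 = 1 := by
      rw [pow_add, hi, show (2 * i + 1) * (2 * i + 1) = 4 * (i * (i + 1)) + 1 by ring]
      obtain ⟨l, hl⟩ := Nat.even_mul_succ_self i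
      omega
    omega
  obtain rfl : σ = 1 := by
    have h1 : orderOf σ ∣ f := by
      rw [← (fieldAut_facts (F := F) p f (by omega) hFf').2]
      exact orderOf_dvd_natCard σ
    exact orderOf_eq_one_iff.1 (Nat.eq_one_of_dvd_coprimes
      ((Nat.coprime_two_left.2 hfodd).pow_left k) (orderOf_dvd_of_pow_eq_one hσ) h1)
  have h2F : (2 : F) ≠ 0 := by
    intro h
    have h2p : p ∣ 2 := (CharP.cast_eq_zero_iff F p 2).1 (by exact_mod_cast h)
    rw [(Nat.prime_dvd_prime_iff_eq Fact.out Nat.prime_two).1 h2p] at hpodd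
    exact absurd hpodd (by decide)
  -- the four group
  obtain ⟨n, hn⟩ := R.isPGroup'.exists_card_eq
  have hn2 : n ≤ 2 := by
    by_contra hlt
    have h1 : 2 ^ 3 ∣ Nat.card PG := (Nat.pow_dvd_pow 2 (by omega : 3 ≤ n)).trans
      (hn ▸ Subgroup.card_subgroup_dvd_card _)
    have h2 := PSL2.card_psl_mul (F := F)
    set q := Nat.card F with hq
    have hqo : q % 2 = 1 := by rw [show q = p ^ f from hFf]; exact Nat.odd_iff.1 hqodd
    rw [Nat.gcd_eq_left (show 2 ∣ q - 1 by omega)] at h2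
    have h16 : 16 ∣ q * ((q + 1) * (q - 1)) := h2 ▸ mul_dvd_mul_left 2 h1
    have h16' : 2 ^ 4 ∣ (q + 1) * (q - 1) := (Nat.Coprime.pow_left 4
      (Nat.coprime_two_left.2 (Nat.odd_iff.2 hqo))).dvd_of_dvd_mul_left h16
    have hq8 : q % 8 = 3 ∨ q % 8 = 5 := by rwa [hq, Nat.card_eq_fintype_card]
    obtain ⟨l, hl⟩ : ∃ l, q = 8 * l + q % 8 := ⟨q / 8, (Nat.div_add_mod q 8).symm⟩
    rcases hq8 with h | h <;> rw [h] at hl <;> rw [hl] at h16'
    · rw [show (8 * l + 3 + 1) * (8 * l + 3 - 1) = 16 * (4 * l * l + 3 * l) + 8 by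
        rw [show 8 * l + 3 - 1 = 8 * l + 2 by omega]; ring] at h16'
      omega
    · rw [show (8 * l + 5 + 1) * (8 * l + 5 - 1) = 16 * (4 * l * l + 5 * l + 1) + 8 by
        rw [show 8 * l + 5 - 1 = 8 * l + 4 by omega]; ring] at h16'
      omega
  have hnc := CentFour.not_cyclic_sylow hna h2G R
  have hn2' : n = 2 := by
    by_contra hne
    refine hnc ?_
    rcases (show n = 0 ∨ n = 1 by omega) with rfl | rfl
    · haveI : Subsingleton ↥(R : Subgroup PG) := Finite.card_le_one_iff_subsingleton.1 (by rw [hn, pow_zero])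
      infer_instance
    · exact isCyclic_of_prime_card (hn.trans (pow_one 2))
  have hexp : ∀ x ∈ (R : Subgroup PG), x * x = 1 := fun x hx => by
    have h := (not_isCyclic_iff_exponent_eq_prime Nat.prime_two (by rw [hn, hn2'])).1 hnc
    have h1 := Monoid.pow_exponent_eq_one (⟨x, hx⟩ : ↥(R : Subgroup PG))
    rw [h, pow_two] at h1
    exact congrArg Subtype.val h1
  obtain ⟨⟨x, hx⟩, hx1⟩ : ∃ a : ↥(R : Subgroup PG), a ≠ 1 :=
    (Subgroup.ne_bot_iff_exists_ne_one.1 fun e => by rw [e, Subgroup.card_bot, hn2'] at hn; norm_num at hn)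
  obtain ⟨y, hy, hyx⟩ : ∃ y ∈ (R : Subgroup PG), y ∉ Subgroup.zpowers x := by
    by_contra hno
    push Not at hno
    refine hnc ⟨⟨⟨x, hx⟩, fun z => ?_⟩⟩
    obtain ⟨i, hi⟩ := hno z z.2
    exact ⟨i, Subtype.ext hi⟩
  have hx1' : x ≠ 1 := fun e => hx1 (Subtype.ext e)
  have hy1 : y ≠ 1 := fun e => hyx (e ▸ one_mem _)
  have hxy1 : x * y ≠ 1 := fun e => hyx (by
    rw [show y = x⁻¹ from eq_inv_of_mul_eq_one_right e]; exact inv_mem (Subgroup.mem_zpowers x))
  have hsq : ∀ s : Matrix.SpecialLinearGroup (Fin 2) F, proj (Fin 2) F s ∈ (R : Subgroup PG) →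
      proj (Fin 2) F s ≠ 1 → (s : M₂) * (s : M₂) = -1 := fun s hs hs1 => by
    rcases PSL2.mk_eq_one_iff.1 (show (QuotientGroup.mk (s * s) : PG) = 1 from hexp _ hs) with h | h
    · exact absurd ((QuotientGroup.eq_one_iff s).2 (PSL2.mem_center_of_mul_self h2F h)) hs1
    · have := congrArg Subtype.val h
      simpa using this
  obtain ⟨s, rfl⟩ := proj_surjective (n := Fin 2) (F := F) x
  obtain ⟨t, rfl⟩ := proj_surjective (n := Fin 2) (F := F) y
  have hS := hsq s hx hx1'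
  have hT := hsq t hy hy1
  have hST := hsq (s * t) (by rw [map_mul]; exact mul_mem hx hy) (by rwa [map_mul])
  rw [Matrix.SpecialLinearGroup.coe_mul] at hST
  set S : M₂ := (s : M₂)
  set T : M₂ := (t : M₂)
  have hTS : T * S = -(S * T) := by
    calc T * S = S * S * (T * S) * (T * T) := by rw [hS, hT, mul_neg, mul_one, neg_mul, one_mul, neg_neg]
      _ = S * (S * T * (S * T)) * T := by noncomm_ring
      _ = -(S * T) := by rw [hST, mul_neg, mul_one, neg_mul]
  have hfix : ∀ u : Matrix.SpecialLinearGroup (Fin 2) F, proj (Fin 2) F u ∈ (R : Subgroup PG) →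
      (g : M₂) * (u : M₂) = (u : M₂) * (g : M₂) ∨ (g : M₂) * (u : M₂) = -((u : M₂) * (g : M₂)) :=
    fun u hu => by
      obtain ⟨c, hc, e⟩ := fixed_matrix (hR _ hu)
      rw [show (u : M₂).map (1 : F ≃+* F) = (u : M₂) by ext i j; rfl] at e
      rcases sq_eq_one_iff.1 hc with rfl | rfl
      · exact Or.inl (by rw [e, one_smul])
      · exact Or.inr (by rw [e, neg_one_smul])
  obtain ⟨h, hS', hT'⟩ : ∃ h : Matrix.SpecialLinearGroup (Fin 2) F,
      (g : M₂) * (h : M₂) * S = S * ((g : M₂) * (h : M₂)) ∧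
      (g : M₂) * (h : M₂) * T = T * ((g : M₂) * (h : M₂)) := by
    rcases hfix s hx with e1 | e1 <;> rcases hfix t hy with e2 | e2
    · exact ⟨1, by simp [S, e1], by simp [T, e2]⟩
    · refine ⟨s, ?_, ?_⟩
      · rw [mul_assoc, hS, mul_neg, mul_one, ← mul_assoc S, ← e1, mul_assoc, hS, mul_neg, mul_one]
      · rw [mul_assoc, show S * T = -(T * S) by rw [hTS, neg_neg], mul_neg, ← mul_assoc, e2, neg_mul,
          neg_neg, mul_assoc]
    · refine ⟨t, ?_, ?_⟩
      · rw [mul_assoc, hTS, mul_neg, ← mul_assoc, e1, neg_mul, neg_neg, mul_assoc]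
      · rw [mul_assoc, hT, mul_neg, mul_one, ← mul_assoc T, ← e2, mul_assoc, hT, mul_neg, mul_one]
    · refine ⟨s * t, ?_, ?_⟩ <;> rw [Matrix.SpecialLinearGroup.coe_mul]
      · rw [mul_assoc, mul_assoc S T S, hTS, mul_neg, mul_neg, ← mul_assoc (g : M₂) S, e1, neg_mul,
          neg_neg, mul_assoc]
      · rw [mul_assoc (g : M₂) (S * T) T, ← mul_assoc T, show T * (g : M₂) = -((g : M₂) * T) by
          rw [e2, neg_neg], neg_mul, mul_assoc (g : M₂) T, ← mul_assoc T S T, hTS, neg_mul, mul_neg,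
          neg_neg]
  obtain ⟨a, ha⟩ := scalar_of_commute h2F hS hT hTS hS' hT'
  refine semi_inner g (a := a) ?_
  have := congrArg Matrix.det ha
  rw [Matrix.det_mul, h.2, mul_one, Matrix.det_smul, Matrix.det_one, mul_one, Fintype.card_fin] at this
  exact this

/-- An automorphism of `r`-power order fixing a Sylow `r`-subgroup pointwise is inner. -/
theorem inner_psl [IsSimpleGroup PG] (hna : ¬ IsMulCommutative PG)
    (hq : Even (Fintype.card F) ∨ Fintype.card F % 8 = 3 ∨ Fintype.card F % 8 = 5)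
    {r : ℕ} [Fact r.Prime] (hr : r ∣ Nat.card PG) {α : MulAut PG} {k : ℕ} (hα : orderOf α = r ^ k)
    (R : Sylow r PG) (hR : ∀ x ∈ (R : Subgroup PG), α x = x) : ∃ x : PG, α = MulAut.conj x := by
  classical
  obtain ⟨p, hp⟩ := CharP.exists F
  haveI : Fact p.Prime := ⟨CharP.char_is_prime F p⟩
  by_cases hrp : r = p
  · subst hrp
    exact inner_of_char R hR
  obtain ⟨g, σ, rfl, hσ, hdet⟩ := exists_semi_data hα
  by_cases hr2 : r = 2
  · subst hr2
    refine inner_of_two (p := p) (hq.resolve_left fun he => hrp ?_) hna hr hσ R hR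
    obtain ⟨f, -, hFf⟩ := GLOrder.exists_card_eq_pow (F := F) p
    have h2 : 2 ∣ p ^ f := by rw [← hFf, Nat.card_eq_fintype_card]; exact he.two_dvd
    exact (Nat.prime_dvd_prime_iff_eq Nat.prime_two Fact.out).1 (Nat.prime_two.dvd_of_dvd_pow h2)
  obtain rfl := field_eq_one hr2 hrp hr hσ R hR
  obtain ⟨a, ha⟩ := hdet rfl
  obtain ⟨j, hj⟩ := ((Fact.out : r.Prime).odd_of_ne_two hr2).pow (n := k)
  rw [hj, pow_succ] at ha
  have hg0 : (g : M₂).det ≠ 0 := (g.isUnit.map Matrix.detMonoidHom).ne_zero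
  refine semi_inner g (a := a / (g : M₂).det ^ j) ?_
  rw [div_pow, eq_div_iff (pow_ne_zero _ (pow_ne_zero _ hg0)), ← ha, ← pow_mul, mul_comm j 2, mul_comm]

end Cfsg.Agent.AbelianSylowAut
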